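import Cfsg.Agent.H144.War.Defs

/-!
# S2453 for `PSp_2n(q)`: box N1 (numbers)
-/

set_option autoImplicit false

namespace Cfsg.Agent.H140.War

theorem pow16 : ∀ M : ℕ, 6 ≤ M → M ^ 16 ≤ 3 ^ (6 * M) := by
  intro M hM
  induction M, hM using Nat.le_induction with
  | base => norm_num
  | succ M hM ih =>
    have h1 : (M + 1) * 2 ≤ 3 * M := by omega
    have h2 : ((M + 1) * 2) ^ 16 ≤ (3 * M) ^ 16 := Nat.pow_le_pow_left h1 16
    rw [Nat.mul_pow, Nat.mul_pow] at h2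
    have h3 : 3 ^ (6 * (M + 1)) = 3 ^ (6 * M) * 729 := by
      rw [Nat.mul_add, pow_add]; norm_num
    rw [h3]
    have h4 : (3 : ℕ) ^ 16 * M ^ 16 ≤ 729 * 2 ^ 16 * M ^ 16 := by
      apply Nat.mul_le_mul_right; norm_num
    have h5 : (M + 1) ^ 16 * 2 ^ 16 ≤ (729 * M ^ 16) * 2 ^ 16 := by
      calc _ ≤ _ := h2
        _ ≤ _ := h4
        _ = _ := by ring
    have h6 : (M + 1) ^ 16 ≤ 729 * M ^ 16 := Nat.le_of_mul_le_mul_right h5 (by positivity)
    calc (M + 1) ^ 16 ≤ 729 * M ^ 16 := h6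
      _ ≤ 729 * 3 ^ (6 * M) := Nat.mul_le_mul_left _ ih
      _ = _ := by ring

theorem pow_two_sq : ∀ M : ℕ, 4 ≤ M → M ^ 4 ≤ 2 ^ (M ^ 2) := by
  intro M hM
  -- `M ^ 4 ≤ 2 ^ (4 * M)`
  have h2 : M ^ 4 ≤ (2 ^ M) ^ 4 := Nat.pow_le_pow_left M.lt_two_pow_self.le 4
  calc M ^ 4 ≤ (2 ^ M) ^ 4 := h2
    _ = 2 ^ (M * 4) := by rw [← pow_mul]
    _ ≤ 2 ^ (M ^ 2) := Nat.pow_le_pow_right (by norm_num) (by nlinarith)

/-- the final inequality from `M ^ 4 ≤ q ^ s` and `2 * e ≤ M ^ 2` -/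
theorem fin_ineq {q s M e : ℕ} (hq : 2 ≤ q) (hs : 2 ≤ s) (hM : 6 ≤ M) (h : M ^ 4 ≤ q ^ s)
    (he : 2 * e ≤ M ^ 2) : e * (q ^ (s / 2) + 1) < q ^ s - 1 := by
  set a := q ^ (s / 2) with ha
  set b := q ^ (s - s / 2) with hb
  have hab : a * b = q ^ s := by rw [ha, hb, ← pow_add]; congr 1; omega
  have ha2 : 2 ≤ a := by
    calc 2 ≤ q := hq
      _ = q ^ 1 := (pow_one q).symm
      _ ≤ a := Nat.pow_le_pow_right (by omega) (by omega)
  have hb2 : M ^ 2 ≤ b := by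
    have h1 : (M ^ 2) ^ 2 ≤ b ^ 2 := by
      calc (M ^ 2) ^ 2 = M ^ 4 := by ring
        _ ≤ q ^ s := h
        _ ≤ q ^ ((s - s / 2) * 2) := Nat.pow_le_pow_right (by omega) (by omega)
        _ = b ^ 2 := by rw [hb, ← pow_mul]
    exact (Nat.pow_le_pow_iff_left (by norm_num)).1 h1
  have hM2 : 36 ≤ M ^ 2 := by nlinarith
  rw [← hab]
  have h5 : 2 * (e * (a + 1)) ≤ b * (a + 1) := by
    rw [← mul_assoc]; exact Nat.mul_le_mul_right _ (he.trans hb2)
  have h6 : b * (a + 1) + 2 < 2 * (a * b) := by nlinarith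
  omega

theorem one_ineq {q s : ℕ} (hq : 2 ≤ q) (hs : 2 ≤ s) (h : 3 ≤ q ∨ 3 ≤ s) :
    1 * (q ^ (s / 2) + 1) < q ^ s - 1 := by
  set a := q ^ (s / 2) with ha
  set b := q ^ (s - s / 2) with hb
  have hab : a * b = q ^ s := by rw [ha, hb, ← pow_add]; congr 1; omega
  have ha2 : q ≤ a := by
    calc q = q ^ 1 := (pow_one q).symm
      _ ≤ a := Nat.pow_le_pow_right (by omega) (by omega)
  have hb3 : 3 ≤ b := by
    rcases h with h | h
    · calc 3 ≤ q := h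
        _ = q ^ 1 := (pow_one q).symm
        _ ≤ b := Nat.pow_le_pow_right (by omega) (by omega)
    · calc 3 ≤ 2 ^ 2 := by norm_num
        _ ≤ q ^ 2 := Nat.pow_le_pow_left hq 2
        _ ≤ b := Nat.pow_le_pow_right (by omega) (by omega)
  rw [← hab, one_mul]
  rcases h with h | h
  · have : a * 3 ≤ a * b := Nat.mul_le_mul_left _ hb3
    omega
  · have hb4 : 4 ≤ b := by
      calc 4 = 2 ^ 2 := by norm_num
        _ ≤ q ^ 2 := Nat.pow_le_pow_left hq 2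
        _ ≤ b := Nat.pow_le_pow_right (by omega) (by omega)
    have : a * 4 ≤ a * b := Nat.mul_le_mul_left _ hb4
    omega

theorem numeric : Cfsg.Agent.H144.War.Numeric := by
  intro q n s M e hq hn hM he hbig hor hs
  rcases hor with rfl | ⟨hM6, he2⟩
  · rcases hs with rfl | ⟨h3, -, hs3⟩
    · refine one_ineq hq hn ?_
      by_contra hcon
      push Not at hcon
      have hq2 : q = 2 := by omega
      have hn2 : s = 2 := by omega
      subst hq2; subst hn2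
      have h1 : 2 ^ (8 * M ^ 2) ≤ M ^ (8 * M ^ 2) := Nat.pow_le_pow_left hM _
      have h2 : 2 ^ (8 * M ^ 2) ≤ 2 ^ (2 * 2 ^ 2 + 2) := h1.trans hbig
      have h3 : 8 * M ^ 2 ≤ 2 * 2 ^ 2 + 2 := (Nat.pow_le_pow_iff_right (by norm_num)).1 h2
      nlinarith
    · exact one_ineq hq (by omega) (Or.inl h3)
  · rcases hs with rfl | ⟨h3, rfl, hs3⟩
    · refine fin_ineq hq hn hM6 ?_ he2
      by_contra hcon
      push Not at hcon
      have h1 : M ^ (8 * M ^ 2) < M ^ (4 * (2 * s + 1)) := by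
        calc M ^ (8 * M ^ 2) ≤ q ^ (2 * s ^ 2 + s) := hbig
          _ = (q ^ s) ^ (2 * s + 1) := by rw [← pow_mul]; congr 1; ring
          _ < (M ^ 4) ^ (2 * s + 1) := Nat.pow_lt_pow_left hcon (by omega)
          _ = _ := by rw [← pow_mul]
      have h2 : 8 * M ^ 2 < 4 * (2 * s + 1) := (Nat.pow_lt_pow_iff_right (by omega)).1 h1
      have h4 : M ^ 2 ≤ s := by omega
      have h5 : M ^ 4 ≤ q ^ s := by
        calc M ^ 4 ≤ 2 ^ (M ^ 2) := pow_two_sq M (by omega)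
          _ ≤ 2 ^ s := Nat.pow_le_pow_right (by norm_num) h4
          _ ≤ q ^ s := Nat.pow_le_pow_left hq s
      omega
    · refine fin_ineq hq (by omega) hM6 ?_ he2
      by_contra hcon
      push Not at hcon
      have h1 : M ^ (8 * M ^ 2) < M ^ (4 * (8 * s + 2)) := by
        calc M ^ (8 * M ^ 2) ≤ q ^ (2 * (2 * s) ^ 2 + 2 * s) := hbig
          _ = (q ^ s) ^ (8 * s + 2) := by rw [← pow_mul]; congr 1; ring
          _ < (M ^ 4) ^ (8 * s + 2) := Nat.pow_lt_pow_left hcon (by omega)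
          _ = _ := by rw [← pow_mul]
      have h2 : 8 * M ^ 2 < 4 * (8 * s + 2) := (Nat.pow_lt_pow_iff_right (by omega)).1 h1
      have h4 : M ^ 2 ≤ 4 * s := by omega
      have h5 : (M ^ 4) ^ 4 ≤ (q ^ s) ^ 4 := by
        calc (M ^ 4) ^ 4 = M ^ 16 := by ring
          _ ≤ 3 ^ (6 * M) := pow16 M hM6
          _ ≤ 3 ^ (M ^ 2) := Nat.pow_le_pow_right (by norm_num) (by nlinarith)
          _ ≤ 3 ^ (4 * s) := Nat.pow_le_pow_right (by norm_num) h4
          _ = (3 ^ s) ^ 4 := by rw [← pow_mul]; congr 1; ring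
          _ ≤ (q ^ s) ^ 4 := Nat.pow_le_pow_left (Nat.pow_le_pow_left h3 s) 4
      have h6 : M ^ 4 ≤ q ^ s := (Nat.pow_le_pow_iff_left (by norm_num)).1 h5
      omega

end Cfsg.Agent.H140.War
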