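import Cfsg.Agent.H144.War.Boxes

/-!
# S2453, `PSp`: box R (reflection corner)

`g = (1 + n) (1 + m)` on `R = P ⊕ Q`, `g ≠ 1`: there is a corner which is a reflection.
-/

set_option autoImplicit false
open Polynomial

namespace Cfsg.Agent.H140.War

open Cfsg.Agent.H144 Cfsg.Agent.H144.War

variable {F V : Type*} [Field F] [AddCommGroup V] [Module F V] {B : LinearMap.BilinForm F V} {R P Q : Submodule F V}

theorem nd_eq_zero (hR : Nd B R) (hPQ : P ⊔ Q = R) {v : V} (hv : v ∈ R) (h1 : ∀ w ∈ P, B v w = 0)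
    (h2 : ∀ w ∈ Q, B v w = 0) : v = 0 := by
  apply hR v hv
  intro w hw
  rw [← hPQ] at hw
  obtain ⟨p, hp, q, hq, rfl⟩ := Submodule.mem_sup.1 hw
  rw [map_add, h1 p hp, h2 q hq, add_zero]

variable [FiniteDimensional F V]

theorem finrank_le_of_nd (hB : Alt B) (hR : Nd B R) (hQ : Orth B Q Q) (hPQ : P ⊔ Q = R) :
    Module.finrank F Q ≤ Module.finrank F P := by
  let e : Q →ₗ[F] Module.Dual F P := (B.compl₁₂ P.subtype Q.subtype).flip
  have he : Function.Injective e := by
    rw [← LinearMap.ker_eq_bot, LinearMap.ker_eq_bot']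
    intro q hq
    have : (q : V) = 0 := by
      apply nd_eq_zero hR hPQ (hPQ ▸ Submodule.mem_sup_right q.2) _ (hQ q q.2)
      intro w hw
      have := LinearMap.congr_fun hq ⟨w, hw⟩
      exact hB.zero this
    exact Subtype.ext this
  have := LinearMap.finrank_le_finrank_of_injective he
  rwa [Subspace.dual_finrank_eq] at this

theorem finrank_of_nd (hB : Alt B) (hR : Nd B R) (hP : Orth B P P) (hQ : Orth B Q Q) (hPQ : P ⊔ Q = R) {a : ℕ}
    (ha : Module.finrank F R = 2 * a) : Module.finrank F P = a := by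
  have h1 := finrank_le_of_nd hB hR hQ hPQ
  have h2 := finrank_le_of_nd (P := Q) (Q := P) hB hR hP (by rw [sup_comm]; exact hPQ)
  have h3 := Submodule.finrank_sup_add_finrank_inf_eq P Q
  have h4 : P ⊓ Q = ⊥ := by
    rw [Submodule.eq_bot_iff]
    rintro v ⟨hv, hv'⟩
    exact nd_eq_zero hR hPQ (hPQ ▸ Submodule.mem_sup_left hv) (hP v hv) (hQ v hv')
  rw [h4, hPQ, finrank_bot] at h3
  omega

/-- the case `g ≠ 1` on `P` -/
theorem refl_core (h2 : (2 : F) ≠ 0) (hB : Alt B) {g : V ≃ₗ[F] V} (hg : Iso B g) (hR : Nd B R)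
    {a : ℕ} (ha : Module.finrank F R = 2 * (a + 1)) (hP : Orth B P P) (hQ : Orth B Q Q) (hPQ : P ⊔ Q = R)
    (hgP : ∀ v ∈ P, g v - v ∈ Q) (hne : ¬ ∀ v ∈ P, g v = v) : Mix B g a 1 R := by
  have hPR : ∀ v ∈ P, v ∈ R := fun v hv => hPQ ▸ Submodule.mem_sup_left hv
  have hQR : ∀ v ∈ Q, v ∈ R := fun v hv => hPQ ▸ Submodule.mem_sup_right hv
  -- the symmetric form
  have hβ : ∀ u v : V, u ∈ P → v ∈ P → B (g u) v = B (g u - u) v := fun u v hu hv => by
    rw [map_sub, LinearMap.sub_apply, hP u hu v hv, sub_zero]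
  have hsym : ∀ u ∈ P, ∀ v ∈ P, B (g u) v = B (g v) u := by
    intro u hu v hv
    have h3 := hQ _ (hgP u hu) _ (hgP v hv)
    have h4 := hg u v
    have h5 := hP u hu v hv
    simp only [map_sub, LinearMap.sub_apply] at h3
    have h6 := hB.neg u (g v)
    linear_combination h4 - h3 - h6 + 2 * h5
  obtain ⟨v, hv, hvv⟩ : ∃ v ∈ P, B (g v) v ≠ 0 := by
    by_contra hcon
    push Not at hcon
    apply hne
    intro u hu
    rw [← sub_eq_zero]
    apply nd_eq_zero hR hPQ (hQR _ (hgP u hu)) _ (hQ _ (hgP u hu))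
    intro w hw
    rw [← hβ u w hu hw]
    have h3 := hcon (u + w) (P.add_mem hu hw)
    simp only [map_add, LinearMap.add_apply, hcon u hu, hcon w hw, hsym w hw u hu] at h3
    have h4 : 2 * B (g u) w = 0 := by linear_combination h3
    exact (mul_eq_zero.1 h4).resolve_left h2
  obtain ⟨c, hc⟩ : ∃ c, c = 2 / B (g v) v := ⟨_, rfl⟩
  have hc' : c * B (g v) v = 2 := by rw [hc, div_mul_cancel₀ _ hvv]
  let s : V →ₗ[F] V := c • (B.flip v).smulRight v
  have hs : ∀ w, s w = (c * B w v) • v := fun w => by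
    simp [s, mul_smul]
  let Q' : Submodule F V := Q.map (LinearMap.id + s)
  have hQ' : ∀ w ∈ Q, w + s w ∈ Q' := fun w hw => ⟨w, hw, rfl⟩
  let U : Submodule F V := P ⊓ LinearMap.ker (B.flip v ∘ₗ (g : V →ₗ[F] V))
  have hU : ∀ u, u ∈ U ↔ u ∈ P ∧ B (g u) v = 0 := fun u => Iff.rfl
  have hv0 : v ≠ 0 := by
    rintro rfl
    exact hvv (map_zero _)
  have hUW : U ⊔ Submodule.span F {v} = P := by
    apply le_antisymm
    · exact sup_le inf_le_left ((Submodule.span_singleton_le_iff_mem _ _).2 hv)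
    · intro u hu
      rw [Submodule.mem_sup]
      refine ⟨u - (B (g u) v / B (g v) v) • v, ?_, (B (g u) v / B (g v) v) • v,
        Submodule.smul_mem _ _ (Submodule.mem_span_singleton_self v), by abel⟩
      rw [hU]
      refine ⟨P.sub_mem hu (P.smul_mem _ hv), ?_⟩
      rw [map_sub, map_smul, map_sub, LinearMap.sub_apply, map_smul, LinearMap.smul_apply, smul_eq_mul,
        div_mul_cancel₀ _ hvv, sub_self]
  have hUWi : U ⊓ Submodule.span F {v} = ⊥ := by
    rw [Submodule.eq_bot_iff]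
    rintro u ⟨hu, hu'⟩
    obtain ⟨t, rfl⟩ := Submodule.mem_span_singleton.1 hu'
    have h3 := ((hU _).1 hu).2
    rw [map_smul, map_smul, LinearMap.smul_apply, smul_eq_mul] at h3
    rw [(mul_eq_zero.1 h3).resolve_right hvv, zero_smul]
  refine ⟨U, Submodule.span F {v}, Q', ?_, ?_, ?_, ?_, finrank_span_singleton hv0, ?_, ?_⟩
  · rw [hUW]; exact hP
  · rintro _ ⟨w, hw, rfl⟩ _ ⟨w', hw', rfl⟩
    simp only [LinearMap.add_apply, LinearMap.id_apply, hs, map_add, map_smul, LinearMap.smul_apply, smul_eq_mul,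
      hQ w hw w' hw', hP v hv v hv]
    rw [hB.neg v w']
    ring
  · rw [hUW, ← hPQ]
    apply le_antisymm
    · refine sup_le le_sup_left ?_
      rintro _ ⟨w, hw, rfl⟩
      rw [LinearMap.add_apply, LinearMap.id_apply, hs]
      exact Submodule.add_mem _ (Submodule.mem_sup_right hw) (Submodule.mem_sup_left (P.smul_mem _ hv))
    · refine sup_le le_sup_left ?_
      intro w hw
      have h3 : w = -(s w) + (w + s w) := by abel
      rw [h3]
      refine Submodule.add_mem_sup (P.neg_mem ?_) (hQ' w hw)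
      rw [hs]
      exact P.smul_mem _ hv
  · have h3 := Submodule.finrank_sup_add_finrank_inf_eq U (Submodule.span F {v})
    rw [hUW, hUWi, finrank_bot, finrank_span_singleton hv0, finrank_of_nd hB hR hP hQ hPQ ha] at h3
    omega
  · intro u hu
    obtain ⟨hu1, hu2⟩ := (hU u).1 hu
    have h3 := hQ' _ (hgP u hu1)
    rwa [hs, ← hβ u v hu1 hv, hu2, mul_zero, zero_smul, add_zero] at h3
  · intro u hu
    obtain ⟨t, rfl⟩ := Submodule.mem_span_singleton.1 hu
    have h3 := Q'.smul_mem t (hQ' _ (hgP v hv))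
    rw [hs, ← hβ v v hv hv, hc'] at h3
    have h4 : t • (g v - v + (2 : F) • v) = g (t • v) + t • v := by
      rw [map_smul]; module
    rwa [h4] at h3

/-- **box R** -/
theorem reflection : Reflection := by
  intro F V _ _ _ _ h2 B hB g hg R hR hI a ha hC hne
  obtain ⟨P, Q, hP, hQ, hPQ, hgP⟩ := hC
  by_cases h : ∀ v ∈ P, g v = v
  · -- `g = 1` on `P`: exchange `P` and `Q`
    have hQP : Q ⊔ P = R := by rw [sup_comm]; exact hPQ
    have hQR : ∀ v ∈ Q, v ∈ R := fun v hv => hPQ ▸ Submodule.mem_sup_right hv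
    refine refl_core h2 hB hg hR ha hQ hP hQP (fun w hw => ?_) (fun h3 => hne ?_)
    · have h3 : g w - w ∈ R := R.sub_mem (hI w (hQR w hw)) (hQR w hw)
      rw [← hPQ] at h3
      obtain ⟨p, hp, q, hq, e⟩ := Submodule.mem_sup.1 h3
      have hq0 : q = 0 := by
        apply nd_eq_zero hR hPQ (hQR q hq) _ (hQ q hq)
        intro u hu
        have h4 : B (g w - w) u = 0 := by
          have h5 := hg w u
          rw [h u hu] at h5
          rw [map_sub, LinearMap.sub_apply, h5, sub_self]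
        rwa [← e, map_add, LinearMap.add_apply, hP p hp u hu, zero_add] at h4
      rw [← e, hq0, add_zero]
      exact hp
    · intro v hv
      rw [← hPQ] at hv
      obtain ⟨p, hp, q, hq, rfl⟩ := Submodule.mem_sup.1 hv
      rw [map_add, h p hp, h3 q hq]
  · exact refl_core h2 hB hg hR ha hP hQ hPQ hgP h

end Cfsg.Agent.H140.War
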